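import Mathlib
import Cfsg.Agent.Helper96.StC.Main
import Cfsg.Agent.Helper62.StCG2

/-!
# The `(B, N)`-pair of `Sp_{2m}(K)`: definitions

Built on helper96's library for the Steinberg relations of type `C`
(`Cfsg.Agent.Helper96.StC`), instantiated at `D = Sp_{2m}(K)` and the root elements
`Cfsg.Agent.Helper29.StCM.spT`.
-/

set_option autoImplicit false

namespace Cfsg.Agent.Helper19.SpBN

open Matrix Cfsg.Agent.Helper96.StN Cfsg.Agent.Helper96.StC Cfsg.Agent.Helper29.StCM

universe u

variable (K : Type u) [Field K] (m : ℕ)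

/-- the group `Sp_{2m}(K)` -/
abbrev SpG : Type u := ↥(Matrix.symplecticGroup (Fin m) K)

/-- the root elements of `Sp_{2m}(K)` -/
def XS : Fin m ⊕ Fin m → Fin m ⊕ Fin m → K → SpG K m := fun p q t => spT p q t

/-- the unipotent radical of the standard Borel subgroup -/
def U : Subgroup (SpG K m) := UposC (XS K m)

/-- the torus -/
def H : Subgroup (SpG K m) := Hsub (XS K m)

/-- the standard Borel subgroup -/
def B : Subgroup (SpG K m) := U K m ⊔ H K m

/-- the representatives `w_α(1)` of the simple reflections -/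
def simpleSet : Set (SpG K m) :=
  {s | ∃ k k' : Fin m ⊕ Fin m, rk k' = rk k + 1 ∧ rk k < m ∧ s = W (XS K m) k k' 1}

/-- the monomial subgroup, generated by the simple reflections and the torus -/
def N : Subgroup (SpG K m) := Subgroup.closure (simpleSet K m) ⊔ H K m

variable {K m}

theorem XS_coe {p q : Fin m ⊕ Fin m} (hpq : p ≠ q) (t : K) : (XS K m p q t).1 = spM p q t :=
  spT_coe hpq t

theorem XS_spRel : SpRel (XS K m) := spT_spRel

theorem XS_closure :
    Subgroup.closure {g : SpG K m | ∃ p q, p ≠ q ∧ ∃ t, g = XS K m p q t} = ⊤ :=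
  Cfsg.Agent.Helper62.StCG.spT_closure

/-- the identity homomorphism satisfies the hypothesis `hφ` of the library -/
theorem id_coe (p q : Fin m ⊕ Fin m) (hpq : p ≠ q) (t : K) :
    (MonoidHom.id (SpG K m) (XS K m p q t)).1 = spM p q t :=
  XS_coe hpq t

theorem XS_monoData (hm : 2 ≤ m) : MonoData (XS K m) reflPerm cw :=
  monoData XS_spRel (exists_other hm)

end Cfsg.Agent.Helper19.SpBN
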