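import Cfsg.Agent.Helper19.SpBN.Defs
import Cfsg.Agent.Helper19.StBN.Crit

/-!
# The `(B, N)`-pair of `Sp_{2m}(K)`: structure of `B` and `N`
-/

set_option autoImplicit false

namespace Cfsg.Agent.Helper19.SpBN

open Matrix Cfsg.Agent.Helper96.StN Cfsg.Agent.Helper96.StC Cfsg.Agent.Helper29.StCM
open Cfsg Cfsg.Agent.Helper6 Cfsg.Agent.Helper18 Cfsg.Agent.Helper19.Cox Cfsg.Agent.Helper19.Poinc
  Cfsg.Agent.Helper19.Stein Cfsg.Agent.Helper19.StBN

universe u

variable {K : Type u} [Field K] {m : ℕ}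

/-! ### (P1) structure of `B` -/

/-- (P1a) `H` normalizes `U` -/
theorem conj_mem_U (hM : MonoData (XS K m) reflPerm cw) {h u : SpG K m} (hh : h ∈ H K m)
    (hu : u ∈ U K m) : h * u * h⁻¹ ∈ U K m := by
  obtain ⟨pp, hpp⟩ := hM.Hsub_isMono hh
  refine Cfsg.Agent.Helper64.StCB.conj_mem_closure h ?_ u hu
  rintro s ⟨i, j, hij, t, rfl⟩
  rw [hpp.2 i j (Cfsg.Agent.Helper64.StCB.ne_of_rk_lt hij) t]
  exact Subgroup.subset_closure ⟨i, j, hij, _, rfl⟩

/-- (P1b) `B = U H` -/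
theorem mem_B_iff (hM : MonoData (XS K m) reflPerm cw) (b : SpG K m) :
    b ∈ B K m ↔ ∃ u ∈ U K m, ∃ h ∈ H K m, b = u * h := by
  constructor
  · intro hb
    unfold B at hb
    rw [Subgroup.sup_eq_closure] at hb
    induction hb using Subgroup.closure_induction with
    | mem x hx =>
      rcases hx with hx | hx
      · exact ⟨x, hx, 1, one_mem _, by simp⟩
      · exact ⟨1, one_mem _, x, hx, by simp⟩
    | one => exact ⟨1, one_mem _, 1, one_mem _, by simp⟩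
    | mul x y _ _ hx hy =>
      obtain ⟨u, hu, h, hh, rfl⟩ := hx
      obtain ⟨u', hu', h', hh', rfl⟩ := hy
      refine ⟨u * (h * u' * h⁻¹), mul_mem hu (conj_mem_U hM hh hu'), h * h', mul_mem hh hh', ?_⟩
      group
    | inv x _ hx =>
      obtain ⟨u, hu, h, hh, rfl⟩ := hx
      refine ⟨h⁻¹ * u⁻¹ * h⁻¹⁻¹, conj_mem_U hM (inv_mem hh) (inv_mem hu), h⁻¹, inv_mem hh, ?_⟩
      group
  · rintro ⟨u, hu, h, hh, rfl⟩
    exact mul_mem ((le_sup_left : U K m ≤ B K m) hu) ((le_sup_right : H K m ≤ B K m) hh)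

/-- (P1c) the elements of `U` are upper unitriangular -/
theorem U_unitri {u : SpG K m} (hu : u ∈ U K m) :
    (∀ r k, rk k < rk r → u.1 r k = 0) ∧ ∀ k, u.1 k k = 1 :=
  Cfsg.Agent.Helper38.StCU.phi_UC_unitri (MonoidHom.id _) id_coe u hu

/-- (P1d) the elements of `H` are diagonal -/
theorem H_diag (hM : MonoData (XS K m) reflPerm cw) {h : SpG K m} (hh : h ∈ H K m) :
    ∀ r k, r ≠ k → h.1 r k = 0 :=
  Cfsg.Agent.Helper81.StCT.phi_H_diag hM (MonoidHom.id _) id_coe h hh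

/-- (P1e) the elements of `B` are upper triangular -/
theorem B_upper (hM : MonoData (XS K m) reflPerm cw) {b : SpG K m} (hb : b ∈ B K m) :
    ∀ r k, rk k < rk r → b.1 r k = 0 := by
  obtain ⟨u, hu, h, hh, rfl⟩ := (mem_B_iff hM b).mp hb
  intro r k hkr
  rw [Submonoid.coe_mul, Matrix.mul_apply]
  apply Finset.sum_eq_zero
  intro l _
  by_cases hlk : l = k
  · subst hlk
    rw [(U_unitri hu).1 r l hkr, zero_mul]
  · rw [H_diag hM hh l k hlk, mul_zero]

/-- (P1f) `U ∩ H = 1` -/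
theorem U_inf_H (hM : MonoData (XS K m) reflPerm cw) {g : SpG K m} (hu : g ∈ U K m)
    (hh : g ∈ H K m) : g = 1 := by
  apply Subtype.ext
  ext r k
  change g.1 r k = (1 : Matrix (Fin m ⊕ Fin m) (Fin m ⊕ Fin m) K) r k
  by_cases hrk : r = k
  · subst hrk
    rw [(U_unitri hu).2 r, Matrix.one_apply_eq]
  · rw [H_diag hM hh r k hrk, Matrix.one_apply_ne hrk]

/-! ### (P2) `N` -/

/-- (P2a) -/
theorem N_le_Nsub : N K m ≤ Nsub (XS K m) := by
  unfold N
  rw [sup_le_iff]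
  constructor
  · rw [Subgroup.closure_le]
    rintro s ⟨k, k', hk, -, rfl⟩
    exact Cfsg.Agent.Helper64.StCB.W_mem_Nsub _ (Cfsg.Agent.Helper64.StCB.ne_of_rk_succ hk)
      one_ne_zero
  · unfold H Hsub
    rw [Subgroup.closure_le]
    rintro _ ⟨i, j, hij, t, ht, rfl⟩
    unfold Hd
    exact mul_mem (Subgroup.subset_closure ⟨i, j, hij, t, ht, rfl⟩)
      (inv_mem (Subgroup.subset_closure ⟨i, j, hij, 1, one_ne_zero, rfl⟩))

/-- (P2b) an element of `Nsub` lying in `B` lies in `H` -/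
theorem mem_H_of_mem_B (hM : MonoData (XS K m) reflPerm cw) [Fintype K] {n : SpG K m}
    (hn : n ∈ Nsub (XS K m)) (hb : n ∈ B K m) : n ∈ H K m :=
  Cfsg.Agent.Helper68.StCN2.mem_Hsub_of_upper XS_spRel hM (MonoidHom.id _) id_coe n hn
    (B_upper hM hb)

/-- (P2c) -/
theorem B_inf_N (hM : MonoData (XS K m) reflPerm cw) [Fintype K] : B K m ⊓ N K m = H K m := by
  apply le_antisymm
  · rintro n ⟨hb, hn⟩
    exact mem_H_of_mem_B hM (N_le_Nsub hn) hb
  · exact le_inf le_sup_right le_sup_right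

/-- (P2d) the matrix of a monomial element -/
theorem mono_col_zero {n : SpG K m} {π : Equiv.Perm (Fin m ⊕ Fin m)} {c : Fin m ⊕ Fin m → K}
    (hn : IsMono (XS K m) n π c) (hb : ∀ k, π (bar k) = bar (π k)) (k r : Fin m ⊕ Fin m)
    (hr : r ≠ π k) : n.1 r k = 0 :=
  Cfsg.Agent.Helper68.StCN2a.col_zero (MonoidHom.id _) id_coe hn hb k r hr

/-- (P2e) an element of `Nsub` with trivial permutation lies in `H` -/
theorem mem_H_of_perm_one (hM : MonoData (XS K m) reflPerm cw) [Fintype K] {n : SpG K m}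
    (hn : n ∈ Nsub (XS K m)) {c : Fin m ⊕ Fin m → K} (h1 : IsMono (XS K m) n 1 c) :
    n ∈ H K m := by
  refine Cfsg.Agent.Helper68.StCN2.mem_Hsub_of_upper XS_spRel hM (MonoidHom.id _) id_coe n hn ?_
  intro r k hkr
  refine mono_col_zero h1 (fun _ => rfl) k r ?_
  rintro rfl
  exact lt_irrefl _ hkr

end Cfsg.Agent.Helper19.SpBN
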