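import Cfsg.Agent.Helper19.SpBN.Pair

/-!
# `Sp_{2m}(K)`: the longest element
-/

set_option autoImplicit false

namespace Cfsg.Agent.Helper19.SpBN

open Matrix Cfsg.Agent.Helper96.StN Cfsg.Agent.Helper96.StC Cfsg.Agent.Helper29.StCM
open Cfsg Cfsg.Agent.Helper6 Cfsg.Agent.Helper18 Cfsg.Agent.Helper19.Cox Cfsg.Agent.Helper19.Poinc
  Cfsg.Agent.Helper19.Stein Cfsg.Agent.Helper19.StBN
open Cfsg.Agent.Helper64.StCB

universe u

variable {K : Type u} [Field K] {m : ℕ}

/-! ### (P15)-(P16) the longest element -/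

/-- (P15) a simple reflection `(k, k')` is a right descent of a monomial element mapping the
root of `(k', k)` to a positive root -/
theorem descent_criterion (hM : MonoData (XS K m) reflPerm cw) [Fintype K]
    {k k' : Fin m ⊕ Fin m} (hk : rk k' = rk k + 1) (hkm : rk k < m) {n : SpG K m}
    (hn : n ∈ N K m) {π : Equiv.Perm (Fin m ⊕ Fin m)} {c : Fin m ⊕ Fin m → K}
    (hπ : IsMono (XS K m) n π c) (hlt : rk (π k') < rk (π k)) :
    wl (wf (spBN hM)) (mkW (spBN hM) n hn *
      wf (spBN hM) ⟨W (XS K m) k k' 1, ⟨k, k', hk, hkm, rfl⟩⟩) <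
      wl (wf (spBN hM)) (mkW (spBN hM) n hn) := by
  have hX : SpRel (XS K m) := XS_spRel
  have hkk' : k ≠ k' := ne_of_rk_succ hk
  have hklt : rk k < rk k' := by omega
  have hUB : U K m ≤ B K m := le_sup_left
  have hHB : H K m ≤ B K m := le_sup_right
  set w := W (XS K m) k k' (1 : K) with hw
  have hwS : w ∈ simpleSet K m := ⟨k, k', hk, hkm, rfl⟩
  have hwmono : IsMono (XS K m) w (reflPerm k k') (cw k k' 1) := hM.mono k k' hkk' 1 one_ne_zero
  have hb : XS K m k k' 1 ∈ (spBN hM).B := hUB (X_mem_UposC _ hklt 1)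
  refine wl_mul_lt_of_mem_dc (spBN hM) hn ⟨w, hwS⟩ hb ?_
  show n * XS K m k k' 1 * w ∈ dc (spBN hM) n
  rw [mem_dc]
  have h5 := X_neg_root_eq hX hkk'.symm (s := (1 : K)) one_ne_zero
  have hws : W (XS K m) k' k (-(1 : K)⁻¹) = w := (hM.W_swap hkk' one_ne_zero).symm
  rw [hws, inv_one] at h5
  have e1 := hπ.2 k' k hkk'.symm 1
  have e2 := hwmono.2 k' k hkk'.symm 1
  rw [reflPerm_right hk, reflPerm_left hk] at e2
  refine ⟨n * XS K m k' k 1 * n⁻¹, ?_, (w * XS K m k' k 1 * w⁻¹) * (w * w), ?_, ?_⟩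
  · rw [e1]
    exact hUB (X_mem_UposC _ hlt _)
  · refine mul_mem ?_ (hHB (simple_sq hM hwS))
    rw [e2]
    exact hUB (X_mem_UposC _ hklt _)
  · rw [h5]
    group

/-- the permutation of a representative of the longest element reverses the order -/
theorem longest_reverses (hM : MonoData (XS K m) reflPerm cw) [Fintype K] {n₀ : SpG K m}
    (hn₀ : n₀ ∈ N K m) (hmax : MaxR (wf (spBN hM)) (mkW (spBN hM) n₀ hn₀))
    {π : Equiv.Perm (Fin m ⊕ Fin m)} {c : Fin m ⊕ Fin m → K}
    (hπ : IsMono (XS K m) n₀ π c) (hbar : ∀ k, π (bar k) = bar (π k)) :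
    ∀ x y : Fin m ⊕ Fin m, rk x < rk y → rk (π y) < rk (π x) := by
  have hE := exchData_wf (spBN hM)
  -- simple roots
  have hA : ∀ k k' : Fin m ⊕ Fin m, rk k' = rk k + 1 → rk k < m → rk (π k') < rk (π k) := by
    intro k k' hk hkm
    by_contra hcon
    have hkk' : k ≠ k' := ne_of_rk_succ hk
    have hne : rk (π k) ≠ rk (π k') := fun e => hkk' (π.injective (rk_injective e))
    have hlt : rk (π k) < rk (π k') := by omega
    set w := W (XS K m) k k' (1 : K) with hw
    have hwS : w ∈ simpleSet K m := ⟨k, k', hk, hkm, rfl⟩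
    have hwN : w ∈ N K m := (spBN hM).subset hwS
    have hwmono : IsMono (XS K m) w (reflPerm k k') (cw k k' 1) :=
      hM.mono k k' hkk' 1 one_ne_zero
    have hm' := hπ.mul hwmono
    have hlt' : rk ((π * reflPerm k k') k') < rk ((π * reflPerm k k') k) := by
      rw [Equiv.Perm.mul_apply, Equiv.Perm.mul_apply, reflPerm_right hk, reflPerm_left hk]
      exact hlt
    have h1 := descent_criterion hM hk hkm (mul_mem hn₀ hwN) hm' hlt'
    have e1 : mkW (spBN hM) (n₀ * w) (mul_mem hn₀ hwN) =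
        mkW (spBN hM) n₀ hn₀ * wf (spBN hM) ⟨w, hwS⟩ := rfl
    rw [e1, mul_assoc, hE.inv, mul_one] at h1
    have h2 := hmax ⟨w, hwS⟩
    omega
  -- all adjacent pairs
  have hB : ∀ k k' : Fin m ⊕ Fin m, rk k' = rk k + 1 → rk (π k') < rk (π k) := by
    intro k k' hk
    by_cases hkm : rk k < m
    · exact hA k k' hk hkm
    · have hk1 := rk_lt k'
      have h := hA (bar k') (bar k) (by rw [rk_bar, rk_bar]; omega) (by rw [rk_bar]; omega)
      rw [hbar, hbar, rk_bar, rk_bar] at h
      have h3 := rk_lt (π k)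
      have h4 := rk_lt (π k')
      omega
  -- all pairs
  have hC : ∀ (d : ℕ) (x y : Fin m ⊕ Fin m), rk y = rk x + d + 1 → rk (π y) < rk (π x) := by
    intro d
    induction d with
    | zero => intro x y h; exact hB x y (by omega)
    | succ d ih =>
      intro x y h
      have hy := rk_lt y
      obtain ⟨z, hz⟩ := exists_rk (m := m) (r := rk x + d + 1) (by omega)
      have h1 := ih x z (by omega)
      have h2 := hB z y (by omega)
      omega
  intro x y hxy
  exact hC (rk y - rk x - 1) x y (by omega)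

/-- (P16) the longest element -/
theorem exists_longest (hM : MonoData (XS K m) reflPerm cw) [Fintype K] :
    ∃ n₀, ∃ hn₀ : n₀ ∈ N K m, MaxR (wf (spBN hM)) (mkW (spBN hM) n₀ hn₀) ∧
      ∀ u ∈ B K m, n₀⁻¹ * u * n₀ ∈ B K m ↔ u ∈ H K m := by
  have hE := exchData_wf (spBN hM)
  have : Finite (SpG K m) := inferInstance
  obtain ⟨w₀, hw₀⟩ := exists_maxR hE
  obtain ⟨n₀, hn₀, rfl⟩ := mkW_surjective (spBN hM) w₀
  have hn₀' : n₀ ∈ N K m := hn₀
  refine ⟨n₀, hn₀', hw₀, ?_⟩
  obtain ⟨π, c, hπ, hbar⟩ := Cfsg.Agent.Helper68.StCN2a.exists_isMono_bar hM (N_le_Nsub hn₀')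
  have hrev := longest_reverses hM hn₀' hw₀ hπ hbar
  have hHB : H K m ≤ B K m := le_sup_right
  intro u hu
  constructor
  · intro hv
    obtain ⟨u₁, hu₁, h₁, hh₁, rfl⟩ := (mem_B_iff hM u).mp hu
    -- `v' = n₀⁻¹ u₁ n₀ ∈ B`
    have hconjH : n₀⁻¹ * h₁⁻¹ * n₀ ∈ H K m := by
      have := hM.conj_mem_Hsub (inv_mem (N_le_Nsub hn₀')) (inv_mem hh₁)
      rwa [inv_inv] at this
    have hv' : n₀⁻¹ * u₁ * n₀ ∈ B K m := by
      have e : n₀⁻¹ * u₁ * n₀ = (n₀⁻¹ * (u₁ * h₁) * n₀) * (n₀⁻¹ * h₁⁻¹ * n₀) := by group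
      rw [e]
      exact mul_mem hv (hHB hconjH)
    set v' := n₀⁻¹ * u₁ * n₀ with hv'def
    have hmat : u₁.1 * n₀.1 = n₀.1 * v'.1 := by
      have e : u₁ * n₀ = n₀ * v' := by rw [hv'def]; group
      have := congrArg Subtype.val e
      simpa using this
    have hnz : ∀ k, n₀.1 (π k) k ≠ 0 := by
      intro k
      obtain ⟨r, hr⟩ := Cfsg.Agent.Helper68.StCN2a.exists_ne_zero n₀ k
      have : r = π k := by
        by_contra hne
        exact hr (mono_col_zero hπ hbar k r hne)
      rwa [this] at hr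
    have hupper := B_upper hM hv'
    have hzero : ∀ a k : Fin m ⊕ Fin m, rk k < rk a → u₁.1 (π a) (π k) = 0 := by
      intro a k hka
      have h1 := congrFun (congrFun hmat (π a)) k
      rw [Matrix.mul_apply, Matrix.mul_apply,
        Finset.sum_eq_single (π k) (fun l _ hl => by
          rw [mono_col_zero hπ hbar k l hl, mul_zero]) (fun h => absurd (Finset.mem_univ _) h),
        Finset.sum_eq_single a (fun l _ hl => by
          rw [mono_col_zero hπ hbar l (π a) (fun e => hl (π.injective e).symm), zero_mul])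
          (fun h => absurd (Finset.mem_univ _) h),
        hupper a k hka, mul_zero] at h1
      exact (mul_eq_zero.mp h1).resolve_right (hnz k)
    have hu₁one : u₁ = 1 := by
      apply Subtype.ext
      ext r k
      change u₁.1 r k = (1 : Matrix (Fin m ⊕ Fin m) (Fin m ⊕ Fin m) K) r k
      obtain ⟨hup, hdiag⟩ := U_unitri hu₁
      by_cases hrk : r = k
      · subst hrk
        rw [hdiag, Matrix.one_apply_eq]
      · rw [Matrix.one_apply_ne hrk]
        have hne : rk r ≠ rk k := fun e => hrk (rk_injective e)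
        rcases lt_or_gt_of_ne hne with hlt | hgt
        · -- above the diagonal
          have h := hzero (π⁻¹ r) (π⁻¹ k) (by
            by_contra hcon
            have hne' : rk (π⁻¹ r) ≠ rk (π⁻¹ k) :=
              fun e => hrk (π⁻¹.injective (rk_injective e))
            have := hrev (π⁻¹ r) (π⁻¹ k) (by omega)
            simp at this
            omega)
          simpa using h
        · exact hup r k hgt
    rw [hu₁one, one_mul]
    exact hh₁
  · intro hu'
    have := hM.conj_mem_Hsub (inv_mem (N_le_Nsub hn₀')) hu'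
    rw [inv_inv] at this
    exact hHB this

end Cfsg.Agent.Helper19.SpBN
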