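import Cfsg.Agent.Helper19.SpBN.Basic
import Cfsg.Agent.Helper29.SpBNP8
import Cfsg.Agent.Helper41.SpBNP9
import Cfsg.Agent.Helper29.SpBNP10
import Cfsg.Agent.Helper53.SpBNP12
import Cfsg.Agent.Helper55.SpBNP11
import Cfsg.Agent.Helper55.SpBNP13
import Cfsg.Agent.Helper55.SpBNP14

/-!
# `Sp_{2m}(K)`: the centre and the Sylow `p`-subgroups

Assembly of the pieces (P8)-(P14) (helper29, helper41, helper53, helper55).
-/

set_option autoImplicit false

namespace Cfsg.Agent.Helper19.SpBN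

open Matrix Cfsg.Agent.Helper96.StN Cfsg.Agent.Helper96.StC Cfsg.Agent.Helper29.StCM
open Cfsg Cfsg.Agent.Helper6 Cfsg.Agent.Helper18 Cfsg.Agent.Helper19.Cox Cfsg.Agent.Helper19.Poinc
  Cfsg.Agent.Helper19.Stein Cfsg.Agent.Helper19.StBN

universe u

variable {K : Type u} [Field K] {m : ℕ}

/-! ### (P8)-(P14) the centre and the Sylow `p`-subgroups -/

/-- (P8) the centre lies in the torus -/
theorem center_le_H (hM : MonoData (XS K m) reflPerm cw) [Fintype K] :
    Subgroup.center (SpG K m) ≤ H K m :=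
  Cfsg.Agent.Helper29.SpBNP8.center_le_H hM

/-- (P9) `U` is a `p`-group -/
theorem U_isPGroup (p : ℕ) [Fact p.Prime] [CharP K p] : IsPGroup p (U K m) :=
  Cfsg.Agent.Helper41.SpBNP9.U_isPGroup p

/-- (P10) the only coset of `B` fixed by `U` is `B` -/
theorem mem_B_of_conj (hM : MonoData (XS K m) reflPerm cw) [Fintype K] (g : SpG K m)
    (h : ∀ u ∈ U K m, g⁻¹ * u * g ∈ B K m) : g ∈ B K m :=
  Cfsg.Agent.Helper29.SpBNP10.mem_B_of_conj hM g h

/-- (P11) -/
theorem not_dvd_index_B (hM : MonoData (XS K m) reflPerm cw) [Fintype K] (p : ℕ) [Fact p.Prime]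
    [CharP K p] : ¬ p ∣ (B K m).index :=
  Cfsg.Agent.Helper55.SpBNP11.not_dvd_index_B hM p

/-- (P12) -/
theorem not_dvd_card_H (hM : MonoData (XS K m) reflPerm cw) [Fintype K] (p : ℕ) [Fact p.Prime]
    [CharP K p] : ¬ p ∣ Nat.card (H K m) :=
  Cfsg.Agent.Helper53.SpBNP12.not_dvd_card_H hM p

/-- (P13) -/
theorem index_H_eq_pow (hM : MonoData (XS K m) reflPerm cw) [Fintype K] (p : ℕ) [Fact p.Prime]
    [CharP K p] : ∃ k : ℕ, ((H K m).subgroupOf (B K m)).index = p ^ k :=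
  Cfsg.Agent.Helper55.SpBNP13.index_H_eq_pow hM p

/-- (P14) -/
theorem card_sylow (hM : MonoData (XS K m) reflPerm cw) [Fintype K] (p : ℕ) [Fact p.Prime]
    [CharP K p] (Q : Sylow p (SpG K m)) :
    Nat.card Q = ((H K m).subgroupOf (B K m)).index :=
  Cfsg.Agent.Helper55.SpBNP14.card_sylow hM p Q

end Cfsg.Agent.Helper19.SpBN
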