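import Cfsg.Agent.Helper19.SpBN.Longest
import Cfsg.Agent.Helper19.SpBN.Sylow
import Cfsg.Agent.Helper74.DefectZero
import Cfsg.Agent.Helper80.Pullback

/-!
# The Steinberg character of `Sp_{2m}(K)` and of `PSp_{2m}(K)`
-/

set_option autoImplicit false

namespace Cfsg.Agent.Helper19.SpBN

open Matrix Cfsg.Agent.Helper96.StN Cfsg.Agent.Helper96.StC Cfsg.Agent.Helper29.StCM
open Cfsg Cfsg.Agent.Helper6 Cfsg.Agent.Helper18 Cfsg.Agent.Helper19.Cox Cfsg.Agent.Helper19.Poinc
  Cfsg.Agent.Helper19.Stein Cfsg.Agent.Helper19.StBN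

universe u

variable {K : Type u} [Field K] [Fintype K] {m : ℕ}

/-- the Steinberg character of `Sp_{2m}(K)` -/
theorem steinberg_Sp (hM : MonoData (XS K m) reflPerm cw) (p : ℕ) [Fact p.Prime] [CharP K p] :
    ∃ χ : SpG K m → ℂ, IsIrrCharacter (SpG K m) χ ∧
      (∀ z ∈ Subgroup.center (SpG K m), χ z = χ 1) ∧
      ∀ Q : Sylow p (SpG K m), χ 1 = Nat.card Q := by
  classical
  have : Finite (SpG K m) := inferInstance
  have : Fintype (spBN hM).S := Fintype.ofFinite _
  obtain ⟨n₀, hn₀, hmax, hH⟩ := exists_longest hM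
  refine ⟨stFun (spBN hM), stFun_isIrr (spBN hM) n₀ hn₀ hmax (H K m) hH, ?_, ?_⟩
  · intro z hz
    exact stFun_central (spBN hM) hz ((le_sup_right : H K m ≤ B K m) (center_le_H hM hz))
  · intro Q
    rw [stFun_one (spBN hM) n₀ hn₀ hmax (H K m) hH, card_sylow hM p Q]
    rfl

/-- the order of a Sylow `p`-subgroup of `PSp_{2m}(K)` -/
theorem card_sylow_PSp (hM : MonoData (XS K m) reflPerm cw) (p : ℕ) [hp : Fact p.Prime]
    [CharP K p] (Q : Sylow p (SpG K m)) (Q' : Sylow p (Cfsg.PSp m K)) :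
    Nat.card Q' = Nat.card Q := by
  rw [Sylow.card_eq_multiplicity, Sylow.card_eq_multiplicity]
  have h1 := Subgroup.card_eq_card_quotient_mul_card_subgroup
    (Subgroup.center (SpG K m))
  have hz : ¬ p ∣ Nat.card (Subgroup.center (SpG K m)) := by
    intro h
    exact not_dvd_card_H hM p (h.trans (Subgroup.card_dvd_of_le (center_le_H hM)))
  have h2 : (Nat.card (SpG K m)).factorization p =
      (Nat.card (Cfsg.PSp m K)).factorization p := by
    rw [h1, Nat.factorization_mul Nat.card_pos.ne' Nat.card_pos.ne', Finsupp.add_apply,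
      Nat.factorization_eq_zero_of_not_dvd hz, add_zero]
  rw [h2]

/-- the Steinberg character of `PSp_{2m}(K)` -/
theorem steinberg_PSp (hM : MonoData (XS K m) reflPerm cw) (p : ℕ) [hp : Fact p.Prime]
    [CharP K p] :
    ∃ χ : Cfsg.PSp m K → ℂ, IsIrrCharacter (Cfsg.PSp m K) χ ∧
      ∀ P : Sylow p (Cfsg.PSp m K), χ 1 = Nat.card P ∧
        ∀ x : Cfsg.PSp m K, x ∈ P → x ≠ 1 → χ x = 0 := by
  classical
  have : Fintype (Cfsg.PSp m K) := Fintype.ofFinite _
  obtain ⟨χ, hχ, hcent, hdeg⟩ := steinberg_Sp hM p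
  obtain ⟨ψ, hψ, hval⟩ := Helper80.IsIrrCharacter.exists_descend hχ
    (QuotientGroup.mk' (Subgroup.center (SpG K m))) (QuotientGroup.mk'_surjective _)
    (fun g hg => by
      have hgc : g ∈ Subgroup.center (SpG K m) := by
        rwa [QuotientGroup.mk'_apply, QuotientGroup.eq_one_iff] at hg
      exact hcent g hgc)
  refine ⟨ψ, hψ, fun P => ?_⟩
  obtain ⟨Q⟩ : Nonempty (Sylow p (SpG K m)) := inferInstance
  have h1' : ψ 1 = (Nat.card P : ℂ) := by
    have h := hval 1
    rw [map_one] at h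
    rw [← h, hdeg Q, card_sylow_PSp hM p Q P]
  refine ⟨h1', fun x hx hx1 => ?_⟩
  have hdeg' : charDegree ψ = Nat.card P := by
    have := Helper74.charDegree_cast (Helper74.isCharacter_of_isIrr hψ)
    rw [h1'] at this
    exact_mod_cast this
  have hdiv : p ^ (Nat.card (Cfsg.PSp m K)).factorization p ∣ charDegree ψ := by
    rw [hdeg', Sylow.card_eq_multiplicity]
  have hy : p ∣ orderOf x := by
    obtain ⟨k, hk⟩ := (IsPGroup.iff_orderOf.1 P.isPGroup') ⟨x, hx⟩
    rw [Subgroup.orderOf_mk] at hk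
    rw [hk]
    have hk0 : k ≠ 0 := by
      rintro rfl
      rw [pow_zero, orderOf_eq_one_iff] at hk
      exact hx1 hk
    exact dvd_pow_self p hk0
  exact Helper74.irr_eq_zero_of_defect_zero ⟨ψ, hψ⟩ hp.out hdiv x hy

end Cfsg.Agent.Helper19.SpBN
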