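import Cfsg.Agent.Helper19.SpBN.Basic
import Cfsg.Agent.Helper53.SpBNP5
import Cfsg.Agent.Helper53.SpBNP7

/-!
# The `(B, N)`-pair of `Sp_{2m}(K)`

The axioms (P3) generation, (P4) the double coset condition, (P6) injectivity are adaptations of
`Cfsg.Agent.Helper64.StCB` (`closure_genSet`, `main_step`); (P5), (P7) are helper53's pieces.
-/

set_option autoImplicit false

namespace Cfsg.Agent.Helper19.SpBN

open Matrix Cfsg.Agent.Helper96.StN Cfsg.Agent.Helper96.StC Cfsg.Agent.Helper29.StCM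
open Cfsg Cfsg.Agent.Helper6 Cfsg.Agent.Helper18 Cfsg.Agent.Helper19.Cox Cfsg.Agent.Helper19.Poinc
  Cfsg.Agent.Helper19.Stein Cfsg.Agent.Helper19.StBN
open Cfsg.Agent.Helper64.StCB

universe u

variable {K : Type u} [Field K] {m : ℕ}

/-! ### (P3) `B` and `N` generate -/

/-- the `w_α(t)` of the simple roots (both index pairs) lie in `N` -/
theorem W_simple_mem_N {k k' : Fin m ⊕ Fin m}
    (hk : rk k' = rk k + 1) {t : K} (ht : t ≠ 0) : W (XS K m) k k' t ∈ N K m := by
  have hkk' : k ≠ k' := ne_of_rk_succ hk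
  by_cases hkm : rk k < m
  · rw [W_eq_Hd_mul' k k' t]
    refine mul_mem ((le_sup_right : H K m ≤ N K m)
      (Subgroup.subset_closure ⟨k, k', hkk', t, ht, rfl⟩)) ?_
    exact (le_sup_left : Subgroup.closure (simpleSet K m) ≤ N K m)
      (Subgroup.subset_closure ⟨k, k', hk, hkm, rfl⟩)
  · have hk1 := rk_lt k'
    have hb1 := rk_bar k
    have hb2 := rk_bar k'
    have hne : bar k' ≠ bar k := fun e => hkk' (bar_injective e).symm
    have hne' : bar k ≠ bar (bar k') := by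
      rw [bar_bar]
      intro e
      rw [← e] at hk
      omega
    have h := W_bar (X := XS K m) XS_spRel hne hne' (t := t) ht
    rw [bar_bar, bar_bar] at h
    rw [h, W_eq_Hd_mul' (bar k') (bar k)]
    have hc : -(eps K (bar k') (bar k) * t) ≠ 0 :=
      neg_ne_zero.mpr (mul_ne_zero (eps_ne_zero _ _) ht)
    refine mul_mem ((le_sup_right : H K m ≤ N K m)
      (Subgroup.subset_closure ⟨bar k', bar k, hne, _, hc, rfl⟩)) ?_
    exact (le_sup_left : Subgroup.closure (simpleSet K m) ≤ N K m)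
      (Subgroup.subset_closure ⟨bar k', bar k, by omega, by omega, rfl⟩)

/-- (P3) -/
theorem B_sup_N (hM : MonoData (XS K m) reflPerm cw) : B K m ⊔ N K m = ⊤ := by
  rw [eq_top_iff, ← closure_genSet XS_spRel hM XS_closure, Subgroup.closure_le]
  rintro g (⟨i, j, hij, t, rfl⟩ | ⟨k, k', hk, t, ht, rfl⟩)
  · exact (le_sup_left : B K m ≤ B K m ⊔ N K m)
      ((le_sup_left : U K m ≤ B K m) (X_mem_UposC _ hij t))
  · exact (le_sup_right : N K m ≤ B K m ⊔ N K m) (W_simple_mem_N hk ht)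

/-! ### (P4) the double coset condition -/

theorem mem_dc_intro {G : Type*} [Group G] {B : Subgroup G} {x n b b' : G} (hb : b ∈ B)
    (hb' : b' ∈ B) (h : x = b * n * b') : x ∈ DoubleCoset.doubleCoset n (B : Set G) B := by
  rw [DoubleCoset.mem_doubleCoset]
  exact ⟨b, hb, b', hb', h⟩

/-- (P4) adaptation of `Cfsg.Agent.Helper64.StCB.main_step` -/
theorem T3 (hM : MonoData (XS K m) reflPerm cw) [Fintype K] {s : SpG K m}
    (hs : s ∈ simpleSet K m) {n : SpG K m} (hn : n ∈ Nsub (XS K m)) {b : SpG K m}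
    (hb : b ∈ B K m) :
    s * b * n ∈ DoubleCoset.doubleCoset (s * n) (B K m : Set (SpG K m)) (B K m) ∪
      DoubleCoset.doubleCoset n (B K m : Set (SpG K m)) (B K m) := by
  obtain ⟨k, k', hk, hkm, rfl⟩ := hs
  have hX : SpRel (XS K m) := XS_spRel
  have hkk' : k ≠ k' := ne_of_rk_succ hk
  have hklt : rk k < rk k' := by omega
  obtain ⟨u, hu, h, hh, rfl⟩ := (mem_B_iff hM b).mp hb
  obtain ⟨u₁, hu₁, a, rfl⟩ := Upos_decomp hX hk u hu
  set w := W (XS K m) k k' 1 with hw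
  have hUB : U K m ≤ B K m := le_sup_left
  have hHB : H K m ≤ B K m := le_sup_right
  have hwN : w ∈ Nsub (XS K m) := W_mem_Nsub _ hkk' one_ne_zero
  have hhN : h ∈ Nsub (XS K m) := hM.Hsub_le_Nsub hh
  have hn₁ : h * n ∈ Nsub (XS K m) := mul_mem hhN hn
  obtain ⟨π, p, hπ⟩ := hM.Nsub_isMono hn₁
  have hwmono : IsMono (XS K m) w (reflPerm k k') (cw k k' 1) := hM.mono k k' hkk' 1 one_ne_zero
  have hu₂ : w * u₁ * w⁻¹ ∈ B K m :=
    hUB (Ualpha_le _ k k' (W_conj_Ualpha hM hk one_ne_zero u₁ hu₁))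
  have hwh : w * h * w⁻¹ ∈ B K m := hHB (hM.conj_mem_Hsub hwN hh)
  have key : ∀ (m' : SpG K m) (π' : Equiv.Perm (Fin m ⊕ Fin m)) (p' : Fin m ⊕ Fin m → K),
      IsMono (XS K m) m' π' p' → rk (π'⁻¹ k) < rk (π'⁻¹ k') → ∀ c : K,
      m'⁻¹ * XS K m k k' c * m' ∈ B K m := by
    intro m' π' p' h' hlt c
    have h2 := h'.inv.2 k k' hkk' c
    rw [inv_inv] at h2
    rw [h2]
    exact hUB (X_mem_UposC _ hlt _)
  have hne : rk (π⁻¹ k) ≠ rk (π⁻¹ k') := fun e => hkk' (π⁻¹.injective (rk_injective e))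
  rcases lt_or_gt_of_ne hne with hlt | hgt
  · -- case A
    left
    refine mem_dc_intro (b := (w * u₁ * w⁻¹) * (w * h * w⁻¹))
      (b' := (h * n)⁻¹ * XS K m k k' a * (h * n)) (mul_mem hu₂ hwh) (key _ π p hπ hlt a) ?_
    group
  · -- case B
    have hm' : IsMono (XS K m) (w * (h * n)) (reflPerm k k' * π) _ := hwmono.mul hπ
    have hlt' : rk ((reflPerm k k' * π)⁻¹ k) < rk ((reflPerm k k' * π)⁻¹ k') := by
      have e1 : (reflPerm k k' * π)⁻¹ k = π⁻¹ k' := by
        rw [_root_.mul_inv_rev, Equiv.Perm.mul_apply, reflPerm_inv_left hk]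
      have e2 : (reflPerm k k' * π)⁻¹ k' = π⁻¹ k := by
        rw [_root_.mul_inv_rev, Equiv.Perm.mul_apply, reflPerm_inv_right hk]
      rw [e1, e2]; exact hgt
    have hconj := hwmono.2 k k' hkk' a
    rw [reflPerm_left hk, reflPerm_right hk] at hconj
    set a' := cw k k' (1 : K) k * (cw k k' (1 : K) k')⁻¹ * a with ha'
    by_cases ha0 : a' = 0
    · left
      rw [ha0, Cfsg.Agent.Helper96.StC.X_zero hX hkk'.symm] at hconj
      refine mem_dc_intro (b := (w * u₁ * w⁻¹) * (w * h * w⁻¹)) (b' := 1)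
        (mul_mem hu₂ hwh) (one_mem _) ?_
      have e : w * (u₁ * XS K m k k' a * h) * n =
          (w * u₁ * w⁻¹) * (w * XS K m k k' a * w⁻¹) * (w * h * w⁻¹) * (w * n) * 1 := by
        group
      rw [e, hconj]
      group
    · right
      have h5 := X_neg_root_eq hX hkk' ha0
      have hw' : W (XS K m) k k' (-a'⁻¹) * w ∈ H K m := by
        have e : W (XS K m) k k' (-a'⁻¹) * w =
            W (XS K m) k k' (-a'⁻¹) * (W (XS K m) k k' (-1))⁻¹ := by
          rw [hM.W_inv hkk', neg_neg]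
        rw [e, hM.W_mul_W_inv hkk' (neg_ne_zero.mpr (inv_ne_zero ha0))
          (neg_ne_zero.mpr one_ne_zero)]
        exact Subgroup.subset_closure ⟨k, k', hkk', _, mul_ne_zero
          (neg_ne_zero.mpr (inv_ne_zero ha0)) (inv_ne_zero (neg_ne_zero.mpr one_ne_zero)), rfl⟩
      refine mem_dc_intro
        (b := (w * u₁ * w⁻¹) * XS K m k k' a'⁻¹ * (W (XS K m) k k' (-a'⁻¹) * w) * h)
        (b' := (w * (h * n))⁻¹ * XS K m k k' a'⁻¹ * (w * (h * n)))
        (mul_mem (mul_mem (mul_mem hu₂ (hUB (X_mem_UposC _ hklt _))) (hHB hw')) (hHB hh))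
        (key _ _ _ hm' hlt' a'⁻¹) ?_
      have e : w * (u₁ * XS K m k k' a * h) * n =
          (w * u₁ * w⁻¹) * (w * XS K m k k' a * w⁻¹) * (w * (h * n)) := by
        group
      rw [e, hconj, h5]
      group

/-! ### (P5)-(P7) -/

/-- (P5) -/
theorem conj_ne (hM : MonoData (XS K m) reflPerm cw) [Fintype K] {s : SpG K m}
    (hs : s ∈ simpleSet K m) :
    (fun b : SpG K m => s * b * s) '' (B K m : Set (SpG K m)) ≠ (B K m : Set (SpG K m)) :=
  Cfsg.Agent.Helper53.SpBNP5.conj_ne hM hs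

/-- (P6) -/
theorem simple_inj (hM : MonoData (XS K m) reflPerm cw) [Fintype K] {s s' : SpG K m}
    (hs : s ∈ simpleSet K m) (hs' : s' ∈ simpleSet K m) (h : s⁻¹ * s' ∈ B K m) : s = s' := by
  obtain ⟨k, k', hk, hkm, rfl⟩ := hs
  obtain ⟨l, l', hl, hlm, rfl⟩ := hs'
  have hkk' : k ≠ k' := ne_of_rk_succ hk
  have hll' : l ≠ l' := ne_of_rk_succ hl
  have hsN : W (XS K m) k k' (1 : K) ∈ Nsub (XS K m) := W_mem_Nsub _ hkk' one_ne_zero
  have hs'N : W (XS K m) l l' (1 : K) ∈ Nsub (XS K m) := W_mem_Nsub _ hll' one_ne_zero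
  have hH : (W (XS K m) k k' (1 : K))⁻¹ * W (XS K m) l l' 1 ∈ H K m :=
    mem_H_of_mem_B hM (mul_mem (inv_mem hsN) hs'N) h
  obtain ⟨pp, hpp⟩ := hM.Hsub_isMono hH
  have h1 := (hM.mono k k' hkk' 1 one_ne_zero).inv.mul (hM.mono l l' hll' 1 one_ne_zero)
  have hbar : ∀ x, ((reflPerm k k')⁻¹ * reflPerm l l') (bar x) =
      bar (((reflPerm k k')⁻¹ * reflPerm l l') x) := by
    intro x
    rw [Equiv.Perm.mul_apply, Equiv.Perm.mul_apply, Cfsg.Agent.Helper68.StCN2a.reflPerm_bar,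
      Equiv.Perm.inv_eq_iff_eq, Cfsg.Agent.Helper68.StCN2a.reflPerm_bar]
    simp
  have hperm := Cfsg.Agent.Helper68.StCN2a.perm_unique (MonoidHom.id _) id_coe h1 hbar hpp
    (fun _ => rfl)
  have hperm' : reflPerm l l' = reflPerm k k' := by
    have := congrArg (fun σ => reflPerm k k' * σ) hperm
    simpa using this
  have e1 : rk (reflPerm l l' k) = rk k + 1 := by
    rw [hperm', reflPerm_left hk, hk]
  have e2 := rk_reflPerm hl k
  rw [e1] at e2
  have hk1 := rk_lt k'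
  have hl1 := rk_lt l'
  have hkl : rk k = rk l := by
    split_ifs at e2 <;> omega
  have hkl' : k = l := rk_injective hkl
  subst hkl'
  have : k' = l' := rk_injective (by omega)
  subst this
  rfl

/-- (P7) -/
theorem simple_sq (hM : MonoData (XS K m) reflPerm cw) [Fintype K] {s : SpG K m}
    (hs : s ∈ simpleSet K m) : s * s ∈ H K m :=
  Cfsg.Agent.Helper53.SpBNP7.simple_sq hM hs

/-- the `(B, N)`-pair of `Sp_{2m}(K)` -/
noncomputable def spBN (hM : MonoData (XS K m) reflPerm cw) [Fintype K] :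
    Cfsg.BNPair (SpG K m) where
  B := B K m
  N := N K m
  S := simpleSet K m
  sup_eq_top := B_sup_N hM
  conj_mem := by
    intro n hn t ht
    rw [B_inf_N hM] at ht
    exact (le_sup_right : H K m ≤ B K m) (hM.conj_mem_Hsub (N_le_Nsub hn) ht)
  subset := fun s hs => (le_sup_left : Subgroup.closure (simpleSet K m) ≤ N K m)
    (Subgroup.subset_closure hs)
  sq_mem := fun s hs => (le_sup_right : H K m ≤ B K m) (simple_sq hM hs)
  inj := fun s hs s' hs' h => simple_inj hM hs hs' h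
  closure_sup := by
    rw [B_inf_N hM]
    rfl
  mul_mem_union := fun s hs n hn b hb => T3 hM hs (N_le_Nsub hn) hb
  conj_ne := fun s hs => conj_ne hM hs

end Cfsg.Agent.Helper19.SpBN
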