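import Cfsg.Agent.Helper19.SpBN.Main
import Cfsg.Agent.Helper19.StBN.Count

/-!
# Parabolic subgroups of `Sp_{2m}(K)`: definitions

Simple reflections indexed by `Fin m`, the block structure attached to a set `J` of simple
roots, and the (matrix-defined) groups `QJ J` of block upper triangular and `OJ J` of block upper
unitriangular symplectic matrices.  Used for Steinberg's count of the unipotent elements.
-/

set_option autoImplicit false

namespace Cfsg.Agent.Helper19.SpBN

open Matrix Cfsg.Agent.Helper96.StN Cfsg.Agent.Helper96.StC Cfsg.Agent.Helper29.StCM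

universe u

variable (K : Type u) [Field K] (m : ℕ)

/-- the left index of the `i`-th simple root -/
def kL (i : Fin m) : Fin m ⊕ Fin m := Sum.inl i

/-- the right index of the `i`-th simple root: `inl (i+1)`, and `inr (m-1)` for the long root -/
def kR (i : Fin m) : Fin m ⊕ Fin m :=
  if h : i.val + 1 < m then Sum.inl ⟨i.val + 1, h⟩ else Sum.inr i

/-- the representative of the `i`-th simple reflection -/
def sR (i : Fin m) : SpG K m := W (XS K m) (kL m i) (kR m i) 1

variable {m}

theorem rk_kL (i : Fin m) : rk (kL m i) = i.val := rfl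

theorem rk_kR (i : Fin m) : rk (kR m i) = i.val + 1 := by
  unfold kR
  split_ifs with h
  · rfl
  · simp only [rk]
    have := i.2
    omega

theorem sR_mem (i : Fin m) : sR K m i ∈ simpleSet K m :=
  ⟨kL m i, kR m i, by rw [rk_kR, rk_kL], by rw [rk_kL]; exact i.2, rfl⟩

variable (m)

/-- the simple root attached to the adjacent positions `t, t+1` (`t ≤ 2m-2`) -/
def fold (t : ℕ) : ℕ := if t < m then t else 2 * m - 2 - t

/-- the positions `t, t+1` are separated by `J` -/
def IsCut (J : Finset (Fin m)) (t : ℕ) : Prop := ∀ i ∈ J, i.val ≠ fold m t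

instance (J : Finset (Fin m)) (t : ℕ) : Decidable (IsCut m J t) := by
  unfold IsCut; infer_instance

variable {m}

/-- the index of the block of `J` containing the position of `x` -/
def blk (J : Finset (Fin m)) (x : Fin m ⊕ Fin m) : ℕ :=
  ((Finset.range (rk x)).filter (fun t => IsCut m J t)).card

variable {K}

/-- block upper triangular matrices -/
def IsQJ (J : Finset (Fin m)) (g : SpG K m) : Prop :=
  ∀ r c, blk J c < blk J r → g.1 r c = 0

/-- block upper unitriangular matrices -/
def IsOJ (J : Finset (Fin m)) (g : SpG K m) : Prop :=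
  ∀ r c, blk J c ≤ blk J r → g.1 r c = (1 : Matrix (Fin m ⊕ Fin m) (Fin m ⊕ Fin m) K) r c

end Cfsg.Agent.Helper19.SpBN
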