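import Cfsg.Agent.Helper19.SpBN.ParaMat
import Cfsg.Agent.Helper5.SpCard

/-!
# Parabolic subgroups of `Sp_{2m}(K)`: group theoretic facts
-/

set_option autoImplicit false

namespace Cfsg.Agent.Helper19.SpBN

open Matrix Cfsg.Agent.Helper96.StN Cfsg.Agent.Helper96.StC Cfsg.Agent.Helper29.StCM
open Cfsg Cfsg.Agent.Helper6 Cfsg.Agent.Helper18 Cfsg.Agent.Helper19.Cox Cfsg.Agent.Helper19.Poinc
  Cfsg.Agent.Helper19.Stein Cfsg.Agent.Helper19.StBN Cfsg.Agent.Helper19.Unip
open Cfsg.Agent.Helper64.StCB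

universe u

variable {K : Type u} [Field K] {m : ℕ}

theorem rk_lt_of_blk_lt (J : Finset (Fin m)) {x y : Fin m ⊕ Fin m} (h : blk J x < blk J y) :
    rk x < rk y := by
  by_contra hcon
  have := blk_mono J (show rk y ≤ rk x by omega)
  omega

/-- (G1) -/
theorem B_le_QJ (hM : MonoData (XS K m) reflPerm cw) (J : Finset (Fin m)) : B K m ≤ QJ K J :=
  fun _ hb r c hrc => B_upper hM hb r c (rk_lt_of_blk_lt J hrc)

/-- (G7a) -/
theorem range_sR : Set.range (sR K m) = simpleSet K m := by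
  ext s
  constructor
  · rintro ⟨i, rfl⟩
    exact sR_mem K i
  · rintro ⟨k, k', hk, hkm, rfl⟩
    refine ⟨⟨rk k, hkm⟩, ?_⟩
    have e1 : kL m ⟨rk k, hkm⟩ = k := rk_injective (by rw [rk_kL])
    have e2 : kR m ⟨rk k, hkm⟩ = k' := rk_injective (by rw [rk_kR, hk])
    unfold sR
    rw [e1, e2]

/-- the parabolic subgroup attached to `J` -/
noncomputable abbrev PJ (hM : MonoData (XS K m) reflPerm cw) [Fintype K] (J : Finset (Fin m)) :
    Subgroup (SpG K m) :=
  (spBN hM).parabolic (gens (sR K m) J)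

theorem gensJ_subset (hM : MonoData (XS K m) reflPerm cw) [Fintype K] (J : Finset (Fin m)) :
    gens (sR K m) J ⊆ (spBN hM).S :=
  gens_subset (spBN hM) (sR K m) range_sR J

/-- the `(B, N)`-pair of the parabolic subgroup -/
noncomputable abbrev subJ (hM : MonoData (XS K m) reflPerm cw) [Fintype K] (J : Finset (Fin m)) :
    Cfsg.BNPair ↥(PJ hM J) :=
  Cfsg.Agent.Helper69.UnipSB.subBN (spBN hM) (gens (sR K m) J) (gensJ_subset hM J)

/-- (G2) -/
theorem PJ_le_QJ (hM : MonoData (XS K m) reflPerm cw) [Fintype K] (J : Finset (Fin m)) :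
    PJ hM J ≤ QJ K J := by
  apply sup_le (B_le_QJ hM J)
  rw [Subgroup.closure_le]
  rintro _ ⟨i, hi, rfl⟩
  exact sR_mem_QJ J hi

/-- (G6) -/
theorem not_dvd_index_U (hM : MonoData (XS K m) reflPerm cw) [Fintype K] (p : ℕ) [Fact p.Prime]
    [CharP K p] : ¬ p ∣ (U K m).index := by
  have : Finite (SpG K m) := inferInstance
  have hUB : U K m ≤ B K m := le_sup_left
  have h1 := Subgroup.relIndex_mul_index hUB
  rw [← h1]
  have hp : p.Prime := Fact.out
  rw [hp.dvd_mul]
  rintro (h | h)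
  · -- `[B : U] = |H|`
    have h2 := Cfsg.Agent.Helper55.SpBNP13.card_eq_mul_of_factor (U K m) (H K m) (B K m)
      le_sup_left le_sup_right (fun b hb => (mem_B_iff hM b).mp hb)
      (fun g hu hh => U_inf_H hM hu hh)
    have h3 := Subgroup.index_mul_card ((U K m).subgroupOf (B K m))
    rw [Nat.card_congr (Subgroup.subgroupOfEquivOfLe hUB).toEquiv] at h3
    have hpos : 0 < Nat.card (U K m) := Nat.card_pos
    have h4 : (U K m).relIndex (B K m) = Nat.card (H K m) := by
      apply Nat.eq_of_mul_eq_mul_right hpos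
      show ((U K m).subgroupOf (B K m)).index * _ = _
      rw [h3, h2, mul_comm]
    rw [h4] at h
    exact not_dvd_card_H hM p h
  · exact not_dvd_index_B hM p h

end Cfsg.Agent.Helper19.SpBN
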