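import Cfsg.Agent.Helper19.SpBN.ParaLong

/-!
# Steinberg's count of the `p`-elements of `Sp_{2m}(K)`
-/

set_option autoImplicit false
set_option maxRecDepth 100000

namespace Cfsg.Agent.Helper19.SpBN

open Matrix Cfsg.Agent.Helper96.StN Cfsg.Agent.Helper96.StC Cfsg.Agent.Helper29.StCM
open Cfsg Cfsg.Agent.Helper6 Cfsg.Agent.Helper18 Cfsg.Agent.Helper19.Cox Cfsg.Agent.Helper19.Poinc
  Cfsg.Agent.Helper19.Stein Cfsg.Agent.Helper19.StBN Cfsg.Agent.Helper19.Unip
open Cfsg.Agent.Helper64.StCB Cfsg.Agent.Helper69.UnipSB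

universe u

variable {K : Type u} [Field K] [Fintype K] {m : ℕ}

/-- the identity `Σ_{J' ⊆ J} (-1)^|J'| [P_J : P_J'] · #unip(P_J') = |U|` in the parabolic
subgroup `P_J` -/
theorem sp_identity (hM : MonoData (XS K m) reflPerm cw) (p : ℕ) [Fact p.Prime] [CharP K p]
    (J : Finset (Fin m)) [Fintype (subJ hM J).S] :
    ∑ J' ∈ (Finset.univ : Finset (subJ hM J).S).powerset, (-1 : ℂ) ^ J'.card *
      ((((subJ hM J).parabolic (Subtype.val '' (↑J' : Set (subJ hM J).S))).index : ℂ) *
        (Nat.card {d : ↥((subJ hM J).parabolic (Subtype.val '' (↑J' : Set (subJ hM J).S))) //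
            IsPElt p (d : ↥(PJ hM J))} : ℂ)) = (Nat.card (U K m) : ℂ) := by
  have : Finite (SpG K m) := inferInstance
  obtain ⟨n₀, hn₀, hmax, hO⟩ := exists_rel_longest hM p J
  have hn₀N : (n₀ : SpG K m) ∈ N K m := NK_le_N (spBN hM) _ (gensJ_subset hM J) hn₀
  have hUB : U K m ≤ B K m := le_sup_left
  have hBP : B K m ≤ PJ hM J := Cfsg.Agent.Helper69.UnipSB.B_le_parabolic (spBN hM) _
  have hUP : U K m ≤ PJ hM J := hUB.trans hBP
  have hOU : OJ K J ≤ U K m := OJ_le_U hM p J
  set B0 : Subgroup (SpG K m) :=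
    B K m ⊓ (B K m).map (MulAut.conj (n₀ : SpG K m)).toMonoidHom with hB0def
  have hB0 : ∀ u, u ∈ B0 ↔ u ∈ B K m ∧ (n₀ : SpG K m)⁻¹ * u * (n₀ : SpG K m) ∈ B K m := by
    intro u
    rw [hB0def, Subgroup.mem_inf, Subgroup.mem_map_equiv, MulAut.conj_symm_apply]
  have key := full_identity (subJ hM J) p ((U K m).subgroupOf (PJ hM J))
    ((OJ K J).subgroupOf (PJ hM J)) (B0.subgroupOf (PJ hM J))
    (fun u hu => hUB hu)
    ((U_isPGroup p).comap_subtype)
    (by
      intro b hb hbp
      refine mem_U_of_isPElt hM p hb ?_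
      obtain ⟨k, hk⟩ := hbp
      exact ⟨k, (Subgroup.orderOf_coe b).trans hk⟩)
    (fun o ho => hOU ho)
    (by
      constructor
      intro n hn g
      exact conj_mem_OJ J (PJ_le_QJ hM J g.2) hn)
    n₀ hn₀ hmax
    (by
      intro u hu
      rw [Subgroup.mem_subgroupOf, hB0]
      constructor
      · intro h
        exact ⟨hu, h⟩
      · intro h
        exact h.2)
    (by
      intro u hu
      have hOu := hO (u : SpG K m) hu
      rw [Subgroup.mem_subgroupOf, Subgroup.mem_subgroupOf, hB0]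
      constructor
      · intro h
        exact hOu.mp h.2
      · intro h
        exact ⟨hUB hu, hOu.mpr h⟩)
    (by
      have h1 := Subgroup.relIndex_mul_index hUP
      have h2 := not_dvd_index_U hM p
      intro hdvd
      apply h2
      rw [← h1]
      exact Dvd.dvd.mul_right hdvd _)
    (by
      rw [Nat.card_congr (Subgroup.subgroupOfEquivOfLe hUP).toEquiv,
        Nat.card_congr (Subgroup.subgroupOfEquivOfLe (hOU.trans hUP)).toEquiv]
      have h1 : ((B0.subgroupOf (PJ hM J)).subgroupOf (subJ hM J).B).index =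
          (B0.subgroupOf (B K m)).index := Subgroup.relIndex_subgroupOf hBP
      rw [h1]
      exact card_U_eq hM hn₀N (OJ K J) B0 hOU hO hB0)
  rw [key, Nat.card_congr (Subgroup.subgroupOfEquivOfLe hUP).toEquiv]

/-- Steinberg: the number of elements of `p`-power order of `Sp_{2m}(K)` is `q^(2m²)` -/
theorem card_pElts_Sp (hM : MonoData (XS K m) reflPerm cw) (p : ℕ) [Fact p.Prime] [CharP K p] :
    Nat.card {x : SpG K m // ∃ k : ℕ, orderOf x = p ^ k} = Fintype.card K ^ (2 * m ^ 2) := by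
  classical
  have : Finite (SpG K m) := inferInstance
  obtain ⟨n₀, hn₀, hmax, hH⟩ := exists_longest hM
  rw [pow_mul', ← card_U hM p]
  refine card_pElts_of_dagger (spBN hM) (sR K m) range_sR p (Nat.card (U K m)) ?_ ?_
  · intro J
    exact dagger_of_identity (spBN hM) (sR K m) range_sR (sR_injective hM) p _ J
      (fun {_} => sp_identity hM p J)
  · rw [degree_sum_of_longest (spBN hM) (sR K m) range_sR (sR_injective hM) n₀ hn₀ hmax
      (H K m) hH]
    have := Cfsg.Agent.Helper55.SpBNP13.index_H_eq_card_U hM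
    exact_mod_cast this

end Cfsg.Agent.Helper19.SpBN
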