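import Cfsg.Agent.Helper19.SpBN.ParaPieces

/-!
# Parabolic subgroups of `Sp_{2m}(K)`: the longest element of `W_J`
-/

set_option autoImplicit false
set_option maxRecDepth 100000

namespace Cfsg.Agent.Helper19.SpBN

open Matrix Cfsg.Agent.Helper96.StN Cfsg.Agent.Helper96.StC Cfsg.Agent.Helper29.StCM
open Cfsg Cfsg.Agent.Helper6 Cfsg.Agent.Helper18 Cfsg.Agent.Helper19.Cox Cfsg.Agent.Helper19.Poinc
  Cfsg.Agent.Helper19.Stein Cfsg.Agent.Helper19.StBN Cfsg.Agent.Helper19.Unip
open Cfsg.Agent.Helper64.StCB Cfsg.Agent.Helper69.UnipSB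

universe u

variable {K : Type u} [Field K] [Fintype K] {m : ℕ}

/-- the `i`-th generator, as a generator of the `(B, N)`-pair of `P_J` -/
noncomputable def sJ (hM : MonoData (XS K m) reflPerm cw) (J : Finset (Fin m)) (i : Fin m)
    (hi : i ∈ J) : (subJ hM J).S :=
  ⟨⟨sR K m i, Cfsg.Agent.Helper69.UnipSB.closure_le_parabolic (spBN hM) _ (Subgroup.subset_closure ⟨i, hi, rfl⟩)⟩,
    ⟨i, hi, rfl⟩⟩

/-- (L2) the relative descent criterion -/
theorem rel_descent (hM : MonoData (XS K m) reflPerm cw) (J : Finset (Fin m)) {i : Fin m}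
    (hi : i ∈ J) {n : ↥(PJ hM J)} (hn : n ∈ (subJ hM J).N)
    {π : Equiv.Perm (Fin m ⊕ Fin m)} {c : Fin m ⊕ Fin m → K}
    (hπ : IsMono (XS K m) (n : SpG K m) π c) (hlt : rk (π (kR m i)) < rk (π (kL m i))) :
    wl (wf (subJ hM J)) (mkW (subJ hM J) n hn * wf (subJ hM J) (sJ hM J i hi)) <
      wl (wf (subJ hM J)) (mkW (subJ hM J) n hn) := by
  have hk : rk (kR m i) = rk (kL m i) + 1 := by rw [rk_kR, rk_kL]
  have hkm : rk (kL m i) < m := by rw [rk_kL]; exact i.2
  obtain ⟨b₁, hb₁, b₂, hb₂, e⟩ := descent_dc hM hk hkm hπ hlt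
  have hBP : B K m ≤ PJ hM J := Cfsg.Agent.Helper69.UnipSB.B_le_parabolic (spBN hM) (gens (sR K m) J)
  have hx : XS K m (kL m i) (kR m i) 1 ∈ B K m :=
    (le_sup_left : U K m ≤ B K m) (X_mem_UposC _ (by omega) 1)
  refine wl_mul_lt_of_mem_dc (subJ hM J) hn (sJ hM J i hi)
    (b := ⟨XS K m (kL m i) (kR m i) 1, hBP hx⟩) hx ?_
  rw [mem_dc]
  exact ⟨⟨b₁, hBP hb₁⟩, hb₁, ⟨b₂, hBP hb₂⟩, hb₂, Subtype.ext e⟩

/-- (L3) the permutation of a representative of the longest element of `W_J` preserves the blocks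
and reverses the order inside each block -/
theorem rel_longest_perm (hM : MonoData (XS K m) reflPerm cw) (J : Finset (Fin m))
    {n₀ : ↥(PJ hM J)} (hn₀ : n₀ ∈ (subJ hM J).N)
    (hmax : MaxR (wf (subJ hM J)) (mkW (subJ hM J) n₀ hn₀))
    {π : Equiv.Perm (Fin m ⊕ Fin m)} {c : Fin m ⊕ Fin m → K}
    (hπ : IsMono (XS K m) (n₀ : SpG K m) π c) (hbar : ∀ k, π (bar k) = bar (π k)) :
    (∀ x, blk J (π x) = blk J x) ∧
      ∀ x y, rk x < rk y → blk J x = blk J y → rk (π y) < rk (π x) := by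
  have hE := exchData_wf (subJ hM J)
  refine ⟨blk_perm J (PJ_le_QJ hM J n₀.2) hπ hbar, ?_⟩
  -- simple roots in `J`
  have hA : ∀ i ∈ J, rk (π (kR m i)) < rk (π (kL m i)) := by
    intro i hi
    by_contra hcon
    have hk : rk (kR m i) = rk (kL m i) + 1 := by rw [rk_kR, rk_kL]
    have hkk' : kL m i ≠ kR m i := kL_ne_kR i
    have hne : rk (π (kL m i)) ≠ rk (π (kR m i)) := fun e => hkk' (π.injective (rk_injective e))
    have hlt : rk (π (kL m i)) < rk (π (kR m i)) := by omega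
    have hwN : (sJ hM J i hi).1 ∈ (subJ hM J).N := (subJ hM J).subset (sJ hM J i hi).2
    have hwmono : IsMono (XS K m) (sR K m i) (reflPerm (kL m i) (kR m i))
        (cw (kL m i) (kR m i) 1) := hM.mono _ _ hkk' 1 one_ne_zero
    have hm' := hπ.mul hwmono
    have hlt' : rk ((π * reflPerm (kL m i) (kR m i)) (kR m i)) <
        rk ((π * reflPerm (kL m i) (kR m i)) (kL m i)) := by
      rw [Equiv.Perm.mul_apply, Equiv.Perm.mul_apply, reflPerm_right hk, reflPerm_left hk]
      exact hlt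
    have h1 := rel_descent hM J hi (n := n₀ * (sJ hM J i hi).1) (mul_mem hn₀ hwN) hm' hlt'
    have e1 : mkW (subJ hM J) (n₀ * (sJ hM J i hi).1) (mul_mem hn₀ hwN) =
        mkW (subJ hM J) n₀ hn₀ * wf (subJ hM J) (sJ hM J i hi) := rfl
    rw [e1, mul_assoc, hE.inv, mul_one] at h1
    have h2 := hmax (sJ hM J i hi)
    omega
  -- adjacent pairs not separated by `J`
  have hB : ∀ k k' : Fin m ⊕ Fin m, rk k' = rk k + 1 → ¬ IsCut m J (rk k) →
      rk (π k') < rk (π k) := by
    intro k k' hk hcut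
    unfold IsCut at hcut
    push Not at hcut
    obtain ⟨i, hi, hif⟩ := hcut
    by_cases hkm : rk k < m
    · have hf : fold m (rk k) = rk k := by unfold fold; rw [if_pos hkm]
      have e1 : kL m i = k := rk_injective (by rw [rk_kL, hif, hf])
      have e2 : kR m i = k' := rk_injective (by rw [rk_kR, hif, hf, hk])
      have := hA i hi
      rwa [e1, e2] at this
    · have hk1 := rk_lt k'
      have hf : fold m (rk k) = 2 * m - 2 - rk k := by unfold fold; rw [if_neg hkm]
      have e1 : kL m i = bar k' := rk_injective (by rw [rk_kL, hif, hf, rk_bar]; omega)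
      have e2 : kR m i = bar k := rk_injective (by rw [rk_kR, hif, hf, rk_bar]; omega)
      have h := hA i hi
      rw [e1, e2, hbar, hbar, rk_bar, rk_bar] at h
      have h3 := rk_lt (π k)
      have h4 := rk_lt (π k')
      omega
  -- all pairs inside a block
  have hC : ∀ (d : ℕ) (x y : Fin m ⊕ Fin m), rk y = rk x + d + 1 → blk J x = blk J y →
      rk (π y) < rk (π x) := by
    intro d
    induction d with
    | zero =>
      intro x y h hb
      refine hB x y (by omega) ?_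
      intro hc
      have := blk_succ J (x := x) (y := y) (by omega)
      rw [if_pos hc] at this
      omega
    | succ d ih =>
      intro x y h hb
      have hy := rk_lt y
      obtain ⟨z, hz⟩ := exists_rk (m := m) (r := rk x + d + 1) (by omega)
      have hxz := blk_mono J (x := x) (y := z) (by omega)
      have hzy := blk_mono J (x := z) (y := y) (by omega)
      have h1 := ih x z (by omega) (by omega)
      have h2 := hB z y (by omega) (by
        intro hc
        have := blk_succ J (x := z) (y := y) (by omega)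
        rw [if_pos hc] at this
        omega)
      omega
  intro x y hxy hb
  exact hC (rk y - rk x - 1) x y (by omega) hb

/-- (L4) the longest element of `W_J` -/
theorem exists_rel_longest (hM : MonoData (XS K m) reflPerm cw) (p : ℕ) [Fact p.Prime]
    [CharP K p] (J : Finset (Fin m)) :
    ∃ n₀ : ↥(PJ hM J), ∃ hn₀ : n₀ ∈ (subJ hM J).N,
      MaxR (wf (subJ hM J)) (mkW (subJ hM J) n₀ hn₀) ∧
      ∀ u ∈ U K m, (n₀ : SpG K m)⁻¹ * u * (n₀ : SpG K m) ∈ B K m ↔ u ∈ OJ K J := by
  have hE := exchData_wf (subJ hM J)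
  have : Finite (SpG K m) := inferInstance
  obtain ⟨w₀, hw₀⟩ := exists_maxR hE
  obtain ⟨n₀, hn₀, rfl⟩ := mkW_surjective (subJ hM J) w₀
  refine ⟨n₀, hn₀, hw₀, ?_⟩
  have hn₀N : (n₀ : SpG K m) ∈ N K m := NK_le_N (spBN hM) _ (gensJ_subset hM J) hn₀
  obtain ⟨π, c, hπ, hbar⟩ := Cfsg.Agent.Helper68.StCN2a.exists_isMono_bar hM (N_le_Nsub hn₀N)
  obtain ⟨hblk, hrev⟩ := rel_longest_perm hM J hn₀ hw₀ hπ hbar
  intro u hu
  constructor
  · intro hv
    exact mem_OJ_of_conj hM J hπ hbar hblk hrev hu hv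
  · intro ho
    have hQ : (n₀ : SpG K m)⁻¹ ∈ QJ K J := inv_mem (PJ_le_QJ hM J n₀.2)
    have := conj_mem_OJ J hQ ho
    rw [inv_inv] at this
    exact (le_sup_left : U K m ≤ B K m) (OJ_le_U hM p J this)

end Cfsg.Agent.Helper19.SpBN
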