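import Cfsg.Agent.Helper19.SpBN.ParaDefs

/-!
# Parabolic subgroups of `Sp_{2m}(K)`: the matrix groups `QJ` and `OJ`
-/

set_option autoImplicit false

namespace Cfsg.Agent.Helper19.SpBN

open Matrix Cfsg.Agent.Helper96.StN Cfsg.Agent.Helper96.StC Cfsg.Agent.Helper29.StCM

universe u

variable {K : Type u} [Field K] {m : ℕ}

/-! ### (M1)-(M3) the block function -/

/-- (M1) -/
theorem blk_mono (J : Finset (Fin m)) {x y : Fin m ⊕ Fin m} (h : rk x ≤ rk y) :
    blk J x ≤ blk J y := by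
  unfold blk
  apply Finset.card_le_card
  apply Finset.filter_subset_filter
  intro t ht
  rw [Finset.mem_range] at ht ⊢
  omega

/-- (M2) -/
theorem blk_succ (J : Finset (Fin m)) {x y : Fin m ⊕ Fin m} (h : rk y = rk x + 1) :
    blk J y = blk J x + if IsCut m J (rk x) then 1 else 0 := by
  unfold blk
  rw [h, Finset.range_add_one, Finset.filter_insert]
  split_ifs with hc
  · rw [Finset.card_insert_of_notMem]
    intro hmem
    have := (Finset.mem_filter.mp hmem).1
    simp at this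
  · rfl

/-- (M3a) -/
theorem blk_kR (J : Finset (Fin m)) {i : Fin m} (hi : i ∈ J) :
    blk J (kR m i) = blk J (kL m i) := by
  rw [blk_succ J (x := kL m i) (y := kR m i) (by rw [rk_kR, rk_kL])]
  rw [if_neg, add_zero]
  intro hc
  apply hc i hi
  rw [rk_kL]
  unfold fold
  rw [if_pos i.2]

/-- (M3b) -/
theorem blk_bar_kR (J : Finset (Fin m)) {i : Fin m} (hi : i ∈ J) :
    blk J (bar (kL m i)) = blk J (bar (kR m i)) := by
  have hi2 := i.2
  rw [blk_succ J (x := bar (kR m i)) (y := bar (kL m i)) (by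
    rw [rk_bar, rk_bar, rk_kR, rk_kL]; omega)]
  rw [if_neg, add_zero]
  intro hc
  apply hc i hi
  rw [rk_bar, rk_kR]
  unfold fold
  split_ifs <;> omega

/-! ### (M4) the group `QJ` of block upper triangular matrices -/

theorem isQJ_iff (J : Finset (Fin m)) (g : SpG K m) :
    IsQJ J g ↔ g.1.BlockTriangular (blk J) :=
  ⟨fun h _ _ hij => h _ _ hij, fun h _ _ hij => h hij⟩

theorem isQJ_one (J : Finset (Fin m)) : IsQJ J (1 : SpG K m) := by
  rw [isQJ_iff]
  exact Matrix.blockTriangular_one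

theorem isQJ_mul (J : Finset (Fin m)) {g h : SpG K m} (hg : IsQJ J g) (hh : IsQJ J h) :
    IsQJ J (g * h) := by
  rw [isQJ_iff] at hg hh ⊢
  exact hg.mul hh

theorem isQJ_inv (J : Finset (Fin m)) {g : SpG K m} (hg : IsQJ J g) : IsQJ J g⁻¹ := by
  rw [isQJ_iff] at hg ⊢
  rw [SymplecticGroup.coe_inv']
  have hu : IsUnit g.1.det := SymplecticGroup.symplectic_det g.2
  have : Invertible g.1 := Matrix.invertibleOfIsUnitDet g.1 hu
  exact Matrix.blockTriangular_inv_of_blockTriangular hg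

variable (K) in
/-- the group of block upper triangular symplectic matrices -/
def QJ (J : Finset (Fin m)) : Subgroup (SpG K m) where
  carrier := {g | IsQJ J g}
  mul_mem' := fun hg hh => isQJ_mul J hg hh
  one_mem' := isQJ_one J
  inv_mem' := fun hg => isQJ_inv J hg

theorem mem_QJ (J : Finset (Fin m)) (g : SpG K m) : g ∈ QJ K J ↔ IsQJ J g := Iff.rfl

/-! ### (M5) strictly block upper triangular matrices -/

/-- strictly block upper triangular matrices -/
def IsStr (J : Finset (Fin m)) (A : Matrix (Fin m ⊕ Fin m) (Fin m ⊕ Fin m) K) : Prop :=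
  ∀ r c, blk J c ≤ blk J r → A r c = 0

theorem IsStr.blockTriangular {J : Finset (Fin m)}
    {A : Matrix (Fin m ⊕ Fin m) (Fin m ⊕ Fin m) K} (hA : IsStr J A) :
    A.BlockTriangular (blk J) := fun _ _ hij => hA _ _ hij.le

theorem IsStr.add {J : Finset (Fin m)} {A A' : Matrix (Fin m ⊕ Fin m) (Fin m ⊕ Fin m) K}
    (hA : IsStr J A) (hA' : IsStr J A') : IsStr J (A + A') := by
  intro r c h
  rw [Matrix.add_apply, hA r c h, hA' r c h, add_zero]

theorem IsStr.neg {J : Finset (Fin m)} {A : Matrix (Fin m ⊕ Fin m) (Fin m ⊕ Fin m) K}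
    (hA : IsStr J A) : IsStr J (-A) := by
  intro r c h
  rw [Matrix.neg_apply, hA r c h, neg_zero]

theorem IsStr.mul_upper {J : Finset (Fin m)}
    {A M : Matrix (Fin m ⊕ Fin m) (Fin m ⊕ Fin m) K} (hA : IsStr J A)
    (hM : M.BlockTriangular (blk J)) : IsStr J (A * M) := by
  intro r c h
  rw [Matrix.mul_apply]
  apply Finset.sum_eq_zero
  intro l _
  by_cases hl : blk J l ≤ blk J r
  · rw [hA r l hl, zero_mul]
  · rw [hM (show blk J c < blk J l by omega), mul_zero]

theorem IsStr.upper_mul {J : Finset (Fin m)}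
    {A M : Matrix (Fin m ⊕ Fin m) (Fin m ⊕ Fin m) K} (hM : M.BlockTriangular (blk J))
    (hA : IsStr J A) : IsStr J (M * A) := by
  intro r c h
  rw [Matrix.mul_apply]
  apply Finset.sum_eq_zero
  intro l _
  by_cases hl : blk J c ≤ blk J l
  · rw [hA l c hl, mul_zero]
  · rw [hM (show blk J l < blk J r by omega), zero_mul]

theorem isOJ_iff (J : Finset (Fin m)) (g : SpG K m) : IsOJ J g ↔ IsStr J (g.1 - 1) := by
  constructor
  · intro h r c hrc
    rw [Matrix.sub_apply, h r c hrc, sub_self]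
  · intro h r c hrc
    have := h r c hrc
    rw [Matrix.sub_apply, sub_eq_zero] at this
    exact this

theorem IsOJ.isQJ {J : Finset (Fin m)} {g : SpG K m} (hg : IsOJ J g) : IsQJ J g := by
  intro r c hrc
  rw [hg r c hrc.le, Matrix.one_apply_ne]
  rintro rfl
  exact lt_irrefl _ hrc

/-! ### (M6) the group `OJ` of block upper unitriangular matrices -/

theorem isOJ_one (J : Finset (Fin m)) : IsOJ J (1 : SpG K m) := fun _ _ _ => rfl

theorem isOJ_mul (J : Finset (Fin m)) {g h : SpG K m} (hg : IsOJ J g) (hh : IsOJ J h) :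
    IsOJ J (g * h) := by
  have hhQ := (isQJ_iff J h).mp hh.isQJ
  rw [isOJ_iff] at hg hh ⊢
  have e : (g * h).1 - 1 = (g.1 - 1) * h.1 + (h.1 - 1) := by
    rw [Submonoid.coe_mul]
    noncomm_ring
  rw [e]
  exact (hg.mul_upper hhQ).add hh

theorem isOJ_inv (J : Finset (Fin m)) {g : SpG K m} (hg : IsOJ J g) : IsOJ J g⁻¹ := by
  have hQ := (isQJ_iff J g⁻¹).mp (isQJ_inv J hg.isQJ)
  rw [isOJ_iff] at hg ⊢
  have e : (g⁻¹).1 - 1 = -((g.1 - 1) * (g⁻¹).1) := by
    have h1 : g.1 * (g⁻¹).1 = 1 := by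
      rw [← Submonoid.coe_mul, mul_inv_cancel]
      rfl
    rw [sub_mul, h1, one_mul]
    abel
  rw [e]
  exact (hg.mul_upper hQ).neg

variable (K) in
/-- the group of block upper unitriangular symplectic matrices -/
def OJ (J : Finset (Fin m)) : Subgroup (SpG K m) where
  carrier := {g | IsOJ J g}
  mul_mem' := fun hg hh => isOJ_mul J hg hh
  one_mem' := isOJ_one J
  inv_mem' := fun hg => isOJ_inv J hg

theorem mem_OJ (J : Finset (Fin m)) (g : SpG K m) : g ∈ OJ K J ↔ IsOJ J g := Iff.rfl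

theorem OJ_le_QJ (J : Finset (Fin m)) : OJ K J ≤ QJ K J := fun _ hg => IsOJ.isQJ hg

/-- (M7) `OJ` is normal in `QJ` -/
theorem conj_mem_OJ (J : Finset (Fin m)) {g o : SpG K m} (hg : g ∈ QJ K J) (ho : o ∈ OJ K J) :
    g * o * g⁻¹ ∈ OJ K J := by
  have hQ := (isQJ_iff J g).mp hg
  have hQ' := (isQJ_iff J g⁻¹).mp (isQJ_inv J hg)
  rw [mem_OJ, isOJ_iff] at ho ⊢
  have e : (g * o * g⁻¹).1 - 1 = g.1 * (o.1 - 1) * (g⁻¹).1 := by
    have h1 : g.1 * (g⁻¹).1 = 1 := by
      rw [← Submonoid.coe_mul, mul_inv_cancel]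
      rfl
    rw [Submonoid.coe_mul, Submonoid.coe_mul, mul_sub, sub_mul, mul_one, h1]
  rw [e]
  exact (IsStr.upper_mul hQ ho).mul_upper hQ'

/-! ### (M8) root elements and simple reflections in `QJ` -/

theorem XS_mem_QJ (J : Finset (Fin m)) {p q : Fin m ⊕ Fin m} (hpq : p ≠ q)
    (h1 : blk J p ≤ blk J q) (h2 : blk J (bar q) ≤ blk J (bar p)) (t : K) :
    XS K m p q t ∈ QJ K J := by
  rw [mem_QJ, isQJ_iff, XS_coe hpq]
  unfold spM
  split_ifs
  · exact Matrix.blockTriangular_one.add (Matrix.blockTriangular_single h1 t)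
  · exact (Matrix.blockTriangular_one.add (Matrix.blockTriangular_single h1 t)).sub
      (Matrix.blockTriangular_single h2 _)

theorem kL_ne_kR (i : Fin m) : kL m i ≠ kR m i := by
  intro h
  have := congrArg rk h
  rw [rk_kL, rk_kR] at this
  omega

theorem sR_mem_QJ (J : Finset (Fin m)) {i : Fin m} (hi : i ∈ J) : sR K m i ∈ QJ K J := by
  unfold sR W
  have h1 := blk_kR J hi
  have h2 := blk_bar_kR J hi
  have hne := kL_ne_kR i
  exact mul_mem (mul_mem (XS_mem_QJ J hne h1.ge h2.ge _) (XS_mem_QJ J hne.symm h1.le h2.le _))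
    (XS_mem_QJ J hne h1.ge h2.ge _)

/-! ### (M9)-(M10) `OJ` is a `p`-group -/

theorem OJ_unitri (J : Finset (Fin m)) {o : SpG K m} (ho : o ∈ OJ K J) :
    (∀ r k, rk k < rk r → o.1 r k = 0) ∧ ∀ k, o.1 k k = 1 := by
  constructor
  · intro r k hkr
    rw [ho r k (blk_mono J hkr.le), Matrix.one_apply_ne]
    rintro rfl
    exact lt_irrefl _ hkr
  · intro k
    rw [ho k k le_rfl, Matrix.one_apply_eq]

/-- an upper unitriangular symplectic matrix has `p`-power order -/
theorem pow_eq_one_of_unitri (p : ℕ) [Fact p.Prime] [CharP K p] {u : SpG K m}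
    (hup : ∀ r k, rk k < rk r → u.1 r k = 0) (hdiag : ∀ k, u.1 k k = 1) :
    ∃ e : ℕ, u ^ p ^ e = 1 := by
  have hp : p.Prime := Fact.out
  rcases Nat.eq_zero_or_pos m with hm | hm
  · subst hm
    refine ⟨0, ?_⟩
    apply Subtype.ext
    exact Subsingleton.elim _ _
  have : Nonempty (Fin m ⊕ Fin m) := ⟨Sum.inl ⟨0, hm⟩⟩
  set A : Matrix (Fin m ⊕ Fin m) (Fin m ⊕ Fin m) K := u.1 - 1 with hAdef
  have hA : ∀ r k, A r k ≠ 0 → rk r < rk k := by
    intro r k h
    by_contra hlt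
    apply h
    rw [hAdef, Matrix.sub_apply]
    rcases Nat.lt_or_ge (rk k) (rk r) with h1 | h1
    · have hne : r ≠ k := by
        intro e; rw [e] at h1; exact lt_irrefl _ h1
      have h2 : u.1 r k = 0 := hup r k h1
      rw [h2, Matrix.one_apply_ne hne, sub_zero]
    · have hrk : r = k := rk_injective (by omega)
      subst hrk
      have h2 : u.1 r r = 1 := hdiag r
      rw [h2, Matrix.one_apply_eq, sub_self]
  have hA0 : A ^ (2 * m) = 0 := by
    ext r k
    by_contra h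
    have h1 := Cfsg.Agent.Helper41.SpBNP9.P9_pow_apply_ne_zero A hA (2 * m) r k h
    have h2 := rk_lt k
    omega
  obtain ⟨e, he⟩ : ∃ e : ℕ, 2 * m ≤ p ^ e :=
    ⟨2 * m, (Nat.lt_pow_self hp.one_lt).le⟩
  have hApe : A ^ (p ^ e) = 0 := by
    rw [← Nat.sub_add_cancel he, pow_add, hA0, mul_zero]
  refine ⟨e, ?_⟩
  apply Subtype.ext
  show ((u ^ p ^ e : SpG K m) : Matrix (Fin m ⊕ Fin m) (Fin m ⊕ Fin m) K) = 1
  rw [SubmonoidClass.coe_pow]
  have hu1 : (u.1 : Matrix (Fin m ⊕ Fin m) (Fin m ⊕ Fin m) K) = 1 + A := by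
    rw [hAdef]; abel
  rw [hu1, add_pow_char_pow_of_commute p e (Commute.one_left A), one_pow, hApe, add_zero]

/-- (M10) -/
theorem OJ_isPGroup (p : ℕ) [Fact p.Prime] [CharP K p] (J : Finset (Fin m)) :
    IsPGroup p (OJ K J) := by
  rintro ⟨o, ho⟩
  obtain ⟨hup, hdiag⟩ := OJ_unitri J ho
  obtain ⟨e, he⟩ := pow_eq_one_of_unitri p hup hdiag
  exact ⟨e, Subtype.ext he⟩

end Cfsg.Agent.Helper19.SpBN
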