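import Cfsg.Agent.Helper19.SpBN.ParaGrp
import Cfsg.Agent.Helper33.SpParaL4a
import Cfsg.Agent.Helper53.SpParaG4
import Cfsg.Agent.Helper53.SpParaG5
import Cfsg.Agent.Helper53.SpParaG7

/-!
# Parabolic subgroups of `Sp_{2m}(K)`: the pieces of the count of the `p`-elements

(G4), (G5), (G7): helper53; (L4a): helper33; the others here.
-/

set_option autoImplicit false

namespace Cfsg.Agent.Helper19.SpBN

open Matrix Cfsg.Agent.Helper96.StN Cfsg.Agent.Helper96.StC Cfsg.Agent.Helper29.StCM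
open Cfsg Cfsg.Agent.Helper6 Cfsg.Agent.Helper18 Cfsg.Agent.Helper19.Cox Cfsg.Agent.Helper19.Poinc
  Cfsg.Agent.Helper19.Stein Cfsg.Agent.Helper19.StBN Cfsg.Agent.Helper19.Unip
open Cfsg.Agent.Helper64.StCB

universe u

variable {K : Type u} [Field K] {m : ℕ}

/-- (G4) -/
theorem OJ_le_U (hM : MonoData (XS K m) reflPerm cw) [Fintype K] (p : ℕ) [Fact p.Prime]
    [CharP K p] (J : Finset (Fin m)) : OJ K J ≤ U K m :=
  Cfsg.Agent.Helper53.SpParaG4.OJ_le_U hM p J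

/-- (G5) -/
theorem mem_U_of_isPElt (hM : MonoData (XS K m) reflPerm cw) [Fintype K] (p : ℕ) [Fact p.Prime]
    [CharP K p] {b : SpG K m} (hb : b ∈ B K m) (hp : IsPElt p b) : b ∈ U K m :=
  Cfsg.Agent.Helper53.SpParaG5.mem_U_of_isPElt hM p hb hp

/-- (G7) -/
theorem sR_injective (hM : MonoData (XS K m) reflPerm cw) [Fintype K] :
    Function.Injective (sR K m) :=
  Cfsg.Agent.Helper53.SpParaG7.sR_injective hM

/-- (L4a) -/
theorem mem_OJ_of_conj (hM : MonoData (XS K m) reflPerm cw) [Fintype K] (J : Finset (Fin m))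
    {n₀ : SpG K m} {π : Equiv.Perm (Fin m ⊕ Fin m)} {c : Fin m ⊕ Fin m → K}
    (hπ : IsMono (XS K m) n₀ π c) (hbar : ∀ k, π (bar k) = bar (π k))
    (hblk : ∀ x, blk J (π x) = blk J x)
    (hrev : ∀ x y, rk x < rk y → blk J x = blk J y → rk (π y) < rk (π x))
    {u : SpG K m} (hu : u ∈ U K m) (hv : n₀⁻¹ * u * n₀ ∈ B K m) : u ∈ OJ K J :=
  Cfsg.Agent.Helper33.SpParaL4a.mem_OJ_of_conj hM J hπ hbar hblk hrev hu hv

/-- (G8) the order of `U` -/
theorem card_U (hM : MonoData (XS K m) reflPerm cw) [Fintype K] (p : ℕ) [Fact p.Prime]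
    [CharP K p] : Nat.card (U K m) = Fintype.card K ^ (m ^ 2) := by
  have hp : p.Prime := Fact.out
  have : Finite (SpG K m) := inferInstance
  obtain ⟨Q⟩ : Nonempty (Sylow p (SpG K m)) := inferInstance
  rw [← Cfsg.Agent.Helper55.SpBNP13.index_H_eq_card_U hM, ← card_sylow hM p Q,
    Sylow.card_eq_multiplicity]
  obtain ⟨f, -, hf⟩ := FiniteField.card K p
  have hcard : Nat.card (SpG K m) = Fintype.card K ^ (m ^ 2) *
      ∏ i ∈ Finset.range m, (Fintype.card K ^ (2 * (i + 1)) - 1) :=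
    Cfsg.Agent.Helper5.card_sp m
  have hq1 : 1 < Fintype.card K := Fintype.one_lt_card
  have hR : ¬ p ∣ ∏ i ∈ Finset.range m, (Fintype.card K ^ (2 * (i + 1)) - 1) := by
    intro hdvd
    rw [Prime.dvd_finsetProd_iff (Nat.prime_iff.mp hp)] at hdvd
    obtain ⟨i, -, hi⟩ := hdvd
    have h1 : p ∣ Fintype.card K ^ (2 * (i + 1)) := by
      rw [hf]
      exact dvd_pow (dvd_pow_self p f.pos.ne') (by omega)
    have h2 : 1 ≤ Fintype.card K ^ (2 * (i + 1)) := Nat.one_le_pow _ _ (by omega)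
    have h3 := Nat.dvd_sub h1 hi
    have h4 : Fintype.card K ^ (2 * (i + 1)) - (Fintype.card K ^ (2 * (i + 1)) - 1) = 1 := by
      omega
    rw [h4] at h3
    exact hp.one_lt.ne' (Nat.dvd_one.mp h3)
  have hpos1 : Fintype.card K ^ (m ^ 2) ≠ 0 := by positivity
  have hpos2 : ∏ i ∈ Finset.range m, (Fintype.card K ^ (2 * (i + 1)) - 1) ≠ 0 := by
    intro h0
    rw [h0] at hR
    exact hR (dvd_zero p)
  rw [hcard, Nat.factorization_mul hpos1 hpos2, Finsupp.add_apply,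
    Nat.factorization_eq_zero_of_not_dvd hR, add_zero, hf, ← pow_mul,
    Nat.Prime.factorization_pow hp]
  simp

/-- (C1) the index of `B ∩ n₀ B n₀⁻¹` in `B` -/
theorem card_U_eq (hM : MonoData (XS K m) reflPerm cw) [Fintype K] {n₀ : SpG K m}
    (hn₀ : n₀ ∈ N K m) (O B₀ : Subgroup (SpG K m)) (hOU : O ≤ U K m)
    (hO : ∀ u ∈ U K m, n₀⁻¹ * u * n₀ ∈ B K m ↔ u ∈ O)
    (hB₀ : ∀ u, u ∈ B₀ ↔ u ∈ B K m ∧ n₀⁻¹ * u * n₀ ∈ B K m) :
    Nat.card (U K m) = (B₀.subgroupOf (B K m)).index * Nat.card O := by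
  have : Finite (SpG K m) := inferInstance
  have hUB : U K m ≤ B K m := le_sup_left
  have hHB : H K m ≤ B K m := le_sup_right
  have hB₀B : B₀ ≤ B K m := fun u hu => ((hB₀ u).mp hu).1
  have hHB₀ : H K m ≤ B₀ := by
    intro h hh
    rw [hB₀]
    refine ⟨hHB hh, hHB ?_⟩
    have := hM.conj_mem_Hsub (inv_mem (N_le_Nsub hn₀)) hh
    rwa [inv_inv] at this
  have hOB₀ : O ≤ B₀ := by
    intro o ho
    rw [hB₀]
    exact ⟨hUB (hOU ho), (hO o (hOU ho)).mpr ho⟩
  have h1 := Cfsg.Agent.Helper55.SpBNP13.index_subgroupOf_eq_card (U K m) (H K m) (B K m) hUB hHB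
    (fun b hb => (mem_B_iff hM b).mp hb) (fun g hu hh => U_inf_H hM hu hh)
  have h2 := Cfsg.Agent.Helper55.SpBNP13.index_subgroupOf_eq_card O (H K m) B₀ hOB₀ hHB₀
    (by
      intro b hb
      obtain ⟨u, hu, h, hh, rfl⟩ := (mem_B_iff hM b).mp (hB₀B hb)
      refine ⟨u, ?_, h, hh, rfl⟩
      have hub : u ∈ B₀ := by
        have e : u = (u * h) * h⁻¹ := by group
        rw [e]
        exact mul_mem hb (inv_mem (hHB₀ hh))
      exact (hO u hu).mp ((hB₀ u).mp hub).2)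
    (fun g hu hh => U_inf_H hM (hOU hu) hh)
  have h3 := Subgroup.relIndex_mul_relIndex (H K m) B₀ (B K m) hHB₀ hB₀B
  rw [← h1]
  show (H K m).relIndex (B K m) = B₀.relIndex (B K m) * _
  rw [← h3, ← h2, mul_comm]
  rfl

/-- (L1) the double coset identity behind the descent criterion -/
theorem descent_dc (hM : MonoData (XS K m) reflPerm cw) [Fintype K]
    {k k' : Fin m ⊕ Fin m} (hk : rk k' = rk k + 1) (hkm : rk k < m) {n : SpG K m}
    {π : Equiv.Perm (Fin m ⊕ Fin m)} {c : Fin m ⊕ Fin m → K}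
    (hπ : IsMono (XS K m) n π c) (hlt : rk (π k') < rk (π k)) :
    ∃ b₁ ∈ B K m, ∃ b₂ ∈ B K m,
      n * XS K m k k' 1 * W (XS K m) k k' 1 = b₁ * n * b₂ := by
  have hX : SpRel (XS K m) := XS_spRel
  have hkk' : k ≠ k' := ne_of_rk_succ hk
  have hklt : rk k < rk k' := by omega
  have hUB : U K m ≤ B K m := le_sup_left
  have hHB : H K m ≤ B K m := le_sup_right
  set w := W (XS K m) k k' (1 : K) with hw
  have hwS : w ∈ simpleSet K m := ⟨k, k', hk, hkm, rfl⟩
  have hwmono : IsMono (XS K m) w (reflPerm k k') (cw k k' 1) := hM.mono k k' hkk' 1 one_ne_zero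
  have h5 := X_neg_root_eq hX hkk'.symm (s := (1 : K)) one_ne_zero
  have hws : W (XS K m) k' k (-(1 : K)⁻¹) = w := (hM.W_swap hkk' one_ne_zero).symm
  rw [hws, inv_one] at h5
  have e1 := hπ.2 k' k hkk'.symm 1
  have e2 := hwmono.2 k' k hkk'.symm 1
  rw [reflPerm_right hk, reflPerm_left hk] at e2
  refine ⟨n * XS K m k' k 1 * n⁻¹, ?_, (w * XS K m k' k 1 * w⁻¹) * (w * w), ?_, ?_⟩
  · rw [e1]
    exact hUB (X_mem_UposC _ hlt _)
  · refine mul_mem ?_ (hHB (simple_sq hM hwS))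
    rw [e2]
    exact hUB (X_mem_UposC _ hklt _)
  · rw [h5]
    group

/-- (L3a) a monomial element of `QJ` preserves the blocks -/
theorem blk_perm (J : Finset (Fin m)) {n : SpG K m} (hn : n ∈ QJ K J)
    {π : Equiv.Perm (Fin m ⊕ Fin m)} {c : Fin m ⊕ Fin m → K}
    (hπ : IsMono (XS K m) n π c) (hbar : ∀ k, π (bar k) = bar (π k)) :
    ∀ x, blk J (π x) = blk J x := by
  have hnz : ∀ k, n.1 (π k) k ≠ 0 := by
    intro k
    obtain ⟨r, hr⟩ := Cfsg.Agent.Helper68.StCN2a.exists_ne_zero n k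
    have : r = π k := by
      by_contra hne
      exact hr (mono_col_zero hπ hbar k r hne)
    rwa [this] at hr
  have hle : ∀ k, blk J (π k) ≤ blk J k := by
    intro k
    by_contra hcon
    exact hnz k (hn (π k) k (by omega))
  have hsum : ∑ k, blk J (π k) = ∑ k, blk J k := Equiv.sum_comp π (blk J)
  have := (Finset.sum_eq_sum_iff_of_le (fun k _ => hle k)).mp hsum
  intro x
  exact this x (Finset.mem_univ x)

end Cfsg.Agent.Helper19.SpBN
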